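import Groth.Agent.Lib.H2Alg.PSHom
import Groth.Agent.Lib.ArtFun.PS
import Groth.Agent.Lib.CI2.LocLift
import Groth.Agent.Lib.CplLocH7.Basic
import Groth.Agent.Lib.CohenAlg3.Exists
import Groth.Agent.Lib.RegLoc.GlobalDim
import Groth.Agent.Lib.AndreFS1.Main
import Groth.Agent.Lib.RegCpl3.Basic
import Groth.Agent.Lib.RigidSec19
import Groth.Agent.Lib.Cohen.Structure
import Mathlib

/-!
# Completions of smooth points with trivial residue extension
-/

set_option autoImplicit false

universe u

open IsLocalRing TensorProduct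

namespace Groth.Agent.SmoothCpl5

theorem mem_map_C {R : Type u} [CommRing R] {n : ℕ} (J : Ideal R) (hJ : J.FG) (f : MvPowerSeries (Fin n) R)
    (hf : ∀ d, MvPowerSeries.coeff d f ∈ J) : f ∈ J.map (MvPowerSeries.C : R →+* MvPowerSeries (Fin n) R) := by
  obtain ⟨r, a, ha⟩ := Submodule.fg_iff_exists_fin_generating_family.mp hJ
  have h : ∀ d, ∃ c : Fin r → R, ∑ i, c i • a i = MvPowerSeries.coeff d f := fun d => by
    rw [← Submodule.mem_span_range_iff_exists_fun, ha]; exact hf d
  choose c hc using h
  have e : f = ∑ i, MvPowerSeries.C (a i) * (show MvPowerSeries (Fin n) R from fun d => c d i) := by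
    ext d
    rw [map_sum, ← hc d]
    refine Finset.sum_congr rfl fun i _ => ?_
    rw [MvPowerSeries.coeff_C_mul, smul_eq_mul, mul_comm]
    rfl
  rw [e]
  exact Ideal.sum_mem _ fun i _ => Ideal.mul_mem_right _ _ (Ideal.mem_map_of_mem _ (ha ▸ Submodule.subset_span ⟨i, rfl⟩))

theorem flat_mvPowerSeries (R : Type u) [CommRing R] [IsNoetherianRing R] (n : ℕ) :
    Module.Flat R (MvPowerSeries (Fin n) R) := by
  haveI := RigidSec19.flat_pi (R := R) (fun _ : ULift.{u} (Fin n →₀ ℕ) => R)
  exact Module.Flat.of_linearEquiv (LinearEquiv.funCongrLeft R R Equiv.ulift : (((Fin n →₀ ℕ)) → R) ≃ₗ[R] _)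

variable {A R T : Type u} [CommRing A] [CommRing R] [CommRing T] [IsLocalRing A] [IsLocalRing R] [IsLocalRing T]
  [IsNoetherianRing A] [IsNoetherianRing R] [IsNoetherianRing T] [Algebra A R] [Algebra A T] [Algebra R T]
  [IsScalarTower A R T]

/-- A surjection from power series onto a flat algebra, which is a minimal presentation of its
regular closed fibre, is bijective. -/
theorem bijective_of_surjective [IsLocalHom (algebraMap R T)] [IsLocalHom (algebraMap A R)] [Module.Flat A T]
    (hR : (maximalIdeal A).map (algebraMap A R) = maximalIdeal R)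
    [IsRegularLocalRing (T ⧸ (maximalIdeal R).map (algebraMap R T))]
    [IsAdicComplete (maximalIdeal (T ⧸ (maximalIdeal R).map (algebraMap R T)))
      (T ⧸ (maximalIdeal R).map (algebraMap R T))] {n : ℕ}
    (hn : (n : WithBot ℕ∞) ≤ ringKrullDim (T ⧸ (maximalIdeal R).map (algebraMap R T)))
    (ψ : MvPowerSeries (Fin n) R →ₐ[R] T) (hsurj : Function.Surjective ψ)
    (hX : ∀ i, ψ (MvPowerSeries.X i) ∈ maximalIdeal T) : Function.Bijective ψ := by
  let JT := (maximalIdeal R).map (algebraMap R T)
  let S := T ⧸ JT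
  let x := fun i => ψ (MvPowerSeries.X i)
  have hψ : ∀ i, ψ (MvPowerSeries.X i) = x i := fun _ => rfl
  let z := fun i => Ideal.Quotient.mk JT (x i)
  have hx : ∀ i, Ideal.Quotient.mk JT (x i) = z i := fun _ => rfl
  have hz : ∀ i, z i ∈ maximalIdeal S := fun i => by
    rw [← map_maximalIdeal_of_surjective (Ideal.Quotient.mk JT) Ideal.Quotient.mk_surjective]
    exact Ideal.mem_map_of_mem _ (hX i)
  let C := MvPowerSeries (Fin n) R
  -- the closed fibre
  let k := ResidueField R
  letI : Algebra k S := (Ideal.quotientMap JT (algebraMap R T) Ideal.le_comap_map).toAlgebra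
  haveI : IsScalarTower R k S := .of_algebraMap_eq fun _ => rfl
  obtain ⟨ψ₀, hψ₀⟩ := H2Alg.PSHom.exists_algHom (A := k) (maximalIdeal S) z
    hz
  let ρ : C →+* MvPowerSeries (Fin n) k := MvPowerSeries.map (residue R)
  have hcomm : ∀ c, ψ₀ (ρ c) = Ideal.Quotient.mk JT (ψ c) := by
    let g₁ : C →ₐ[R] S :=
      { ψ₀.toRingHom.comp ρ with
        commutes' := fun a => by
          show ψ₀ (ρ (MvPowerSeries.C a)) = _
          rw [MvPowerSeries.map_C, show MvPowerSeries.C (residue R a) = algebraMap k _ (residue R a) from rfl,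
            ψ₀.commutes]
          rfl }
    let g₂ : C →ₐ[R] S := (Ideal.Quotient.mkₐ R JT).comp ψ
    have hg : g₁ = g₂ := by
      refine H2Alg.PSHom.algHom_ext (maximalIdeal S) (fun i => ?_) fun i => ?_
      · show ψ₀ (ρ (MvPowerSeries.X i)) ∈ _
        rw [MvPowerSeries.map_X, hψ₀]
        exact hz i
      · show ψ₀ (ρ (MvPowerSeries.X i)) = Ideal.Quotient.mk JT (ψ (MvPowerSeries.X i))
        rw [MvPowerSeries.map_X, hψ₀, hψ, hx]
    exact fun c => DFunLike.congr_fun hg c
  have hinj₀ : Function.Injective ψ₀ := by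
    haveI := H2Alg.PSHom.isRegularLocalRing k n
    refine CohenAlg3.injective_of_surjective_regular ψ₀.toRingHom (fun s => ?_) ?_
    · obtain ⟨t, rfl⟩ := Ideal.Quotient.mk_surjective s
      obtain ⟨c, rfl⟩ := hsurj t
      exact ⟨ρ c, hcomm c⟩
    · rw [H2Alg.PSHom.ringKrullDim_eq]; exact hn
  have hkey : ∀ c : C, ψ c ∈ JT → c ∈ (maximalIdeal R).map (MvPowerSeries.C : R →+* C) := by
    intro c hc
    have h0 : ρ c = 0 := hinj₀ (by rw [hcomm, Ideal.Quotient.eq_zero_iff_mem.2 hc, map_zero])
    refine mem_map_C _ (maximalIdeal R).fg_of_isNoetherianRing c fun d => ?_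
    rw [← residue_eq_zero_iff]
    have := congrArg (MvPowerSeries.coeff d) h0
    rwa [MvPowerSeries.coeff_map, map_zero] at this
  -- injectivity
  letI : Algebra C T := ψ.toRingHom.toAlgebra
  haveI : IsScalarTower A C T := .of_algebraMap_eq fun a => by
    show _ = ψ (algebraMap A C a)
    rw [IsScalarTower.algebraMap_apply A R C, ψ.commutes, ← IsScalarTower.algebraMap_apply]
  haveI : IsLocalHom (algebraMap R C) := ⟨fun a ha => by
    have := ha.map (MvPowerSeries.constantCoeff : C →+* R)
    rwa [show MvPowerSeries.constantCoeff (algebraMap R C a) = a from MvPowerSeries.constantCoeff_C a] at this⟩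
  haveI : IsLocalHom (algebraMap A C) := by
    rw [IsScalarTower.algebraMap_eq A R C]; exact RingHom.isLocalHom_comp _ _
  have hinj : Function.Injective (Algebra.linearMap C T) := by
    refine CI2.injective_of_injective_mod_maximal (A := A) (Algebra.linearMap C T) hsurj ?_
    rw [injective_iff_map_eq_zero]
    intro w hw
    obtain ⟨c, rfl⟩ := TensorProduct.mk_surjective A C (A ⧸ maximalIdeal A) Ideal.Quotient.mk_surjective w
    rw [TensorProduct.mk_apply, LinearMap.lTensor_tmul, FlatH4.one_tmul_eq_zero_iff, Ideal.smul_top_eq_map,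
      Submodule.restrictScalars_mem] at hw
    rw [TensorProduct.mk_apply, FlatH4.one_tmul_eq_zero_iff, Ideal.smul_top_eq_map, Submodule.restrictScalars_mem]
    rw [IsScalarTower.algebraMap_eq A R C, ← Ideal.map_map, hR]
    refine hkey c ?_
    rw [IsScalarTower.algebraMap_eq A R T, ← Ideal.map_map, hR] at hw
    exact hw
  exact ⟨hinj, hsurj⟩

/-- A flat complete algebra with regular closed fibre and trivial residue extension is a power series ring. -/
theorem exists_algEquiv [IsAdicComplete (maximalIdeal R) R] [IsAdicComplete (maximalIdeal T) T]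
    [IsLocalHom (algebraMap R T)] [IsLocalHom (algebraMap A R)] [Module.Flat A T]
    (hR : (maximalIdeal A).map (algebraMap A R) = maximalIdeal R)
    (hres : Function.Surjective (ResidueField.map (algebraMap R T)))
    [IsRegularLocalRing (T ⧸ (maximalIdeal R).map (algebraMap R T))] :
    ∃ n, Nonempty (MvPowerSeries (Fin n) R ≃ₐ[R] T) := by
  let JT := (maximalIdeal R).map (algebraMap R T)
  let S := T ⧸ JT
  have hJle : JT ≤ maximalIdeal T := by
    rw [Ideal.map_le_iff_le_comap]
    exact fun a ha => map_nonunit (algebraMap R T) a ha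
  obtain ⟨z, hz⟩ := CohenAlg3.exists_fin_gens (R := S)
  let n := (maximalIdeal S).spanFinrank
  choose x hx using fun i => Ideal.Quotient.mk_surjective (z i)
  have hmk : (maximalIdeal T).map (Ideal.Quotient.mk JT) = maximalIdeal S :=
    map_maximalIdeal_of_surjective _ Ideal.Quotient.mk_surjective
  have hxm : ∀ i, x i ∈ maximalIdeal T := fun i => by
    have h1 : z i ∈ (maximalIdeal T).map (Ideal.Quotient.mk JT) := by
      rw [hmk, ← hz]; exact Ideal.subset_span ⟨i, rfl⟩
    rw [← hx i] at h1
    have := Ideal.mem_comap.2 h1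
    rwa [Ideal.comap_map_of_surjective _ Ideal.Quotient.mk_surjective, ← RingHom.ker_eq_comap_bot, Ideal.mk_ker,
      sup_eq_left.2 hJle] at this
  obtain ⟨ψ, hψ⟩ := H2Alg.PSHom.exists_algHom (A := R) (maximalIdeal T) x hxm
  let C := MvPowerSeries (Fin n) R
  haveI : IsAdicComplete (maximalIdeal C) C := ArtFunLib.isAdicComplete_mvPowerSeries
  have hgen : (maximalIdeal C).map ψ.toRingHom = maximalIdeal T := by
    rw [Cohen.maximalIdeal_mvPowerSeries, Ideal.map_sup, Ideal.map_map, H2Alg.PSHom.V, Ideal.map_span,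
      ← Set.range_comp, show (⇑ψ.toRingHom ∘ fun i => MvPowerSeries.X i) = x from funext hψ,
      show ψ.toRingHom.comp (MvPowerSeries.C : R →+* C) = algebraMap R T from
        RingHom.ext fun a => ψ.commutes a]
    refine le_antisymm (sup_le hJle (Ideal.span_le.2 ?_)) fun t ht => ?_
    · rintro _ ⟨i, rfl⟩; exact hxm i
    · have h1 : Ideal.Quotient.mk JT t ∈ (Ideal.span (Set.range x)).map (Ideal.Quotient.mk JT) := by
        rw [Ideal.map_span, ← Set.range_comp, show (⇑(Ideal.Quotient.mk JT) ∘ x) = z from funext hx, hz, ← hmk]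
        exact Ideal.mem_map_of_mem _ ht
      have := Ideal.mem_comap.2 h1
      rwa [Ideal.comap_map_of_surjective _ Ideal.Quotient.mk_surjective, ← RingHom.ker_eq_comap_bot, Ideal.mk_ker,
        sup_comm] at this
  have hres' : ∀ t : T, ∃ a : R, t - algebraMap R T a ∈ maximalIdeal T := fun t => by
    obtain ⟨r, hr⟩ := hres (residue T t)
    obtain ⟨a, rfl⟩ := residue_surjective r
    refine ⟨a, ?_⟩
    rw [← residue_eq_zero_iff, map_sub, ← hr, ResidueField.map_residue, sub_self]
  have hsurj : Function.Surjective ψ := by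
    haveI : IsHausdorff ((maximalIdeal C).map ψ.toRingHom) T := by rw [hgen]; infer_instance
    refine surjective_of_mk_map_comp_surjective (I := maximalIdeal C) (f := ψ.toRingHom) fun t => ?_
    obtain ⟨t, rfl⟩ := Ideal.Quotient.mk_surjective t
    obtain ⟨a, ha⟩ := hres' t
    refine ⟨algebraMap R C a, ?_⟩
    show Ideal.Quotient.mk _ (ψ (algebraMap R C a)) = _
    rw [ψ.commutes, Ideal.Quotient.mk_eq_mk_iff_sub_mem, hgen]
    simpa using neg_mem ha
  haveI : IsAdicComplete (maximalIdeal S) S := CohenAlg3.isAdicComplete_quotient JT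
  exact ⟨n, ⟨AlgEquiv.ofBijective ψ (bijective_of_surjective hR
    (le_of_eq (IsRegularLocalRing.spanFinrank_maximalIdeal (R := S))) ψ hsurj
    fun i => (hψ i).symm ▸ hxm i)⟩⟩

/-- A regular local algebra with rational residue field is geometrically regular. -/
theorem geomRegular_of_rational {k S : Type u} [Field k] [CommRing S] [IsRegularLocalRing S] [Algebra k S]
    (h : Function.Surjective ((residue S).comp (algebraMap k S))) : CAlg.IsGeometricallyRegular k S := by
  intro K _ _ _
  letI : Algebra S (K ⊗[k] S) := Algebra.TensorProduct.rightAlgebra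
  let P := K ⊗[k] S
  haveI : Module.Finite S P := Module.Finite.of_equiv_equiv (RingEquiv.refl S)
    (Algebra.TensorProduct.comm k S K).toRingEquiv (RingHom.ext fun s => by simp [Algebra.TensorProduct.right_algebraMap_apply, P, RingHom.algebraMap_toAlgebra])
  haveI : Module.Flat S P := Module.Flat.of_linearEquiv (R := S) (M := S ⊗[k] K)
    ({ (Algebra.TensorProduct.comm k K S).toRingEquiv.toAddEquiv with
        map_smul' := fun s z => by
          show Algebra.TensorProduct.comm k K S (algebraMap S P s * z) = s • _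
          rw [map_mul, Algebra.smul_def]
          rfl } : P ≃ₗ[S] S ⊗[k] K)
  haveI : IsNoetherianRing P := IsNoetherianRing.of_finite S P
  let M₀ := (maximalIdeal S).map (algebraMap S P)
  let ι : K →+* P ⧸ M₀ := (Ideal.Quotient.mk M₀).comp (algebraMap K P)
  have hsurj : Function.Surjective ι := by
    intro z
    obtain ⟨z, rfl⟩ := Ideal.Quotient.mk_surjective z
    induction z using TensorProduct.induction_on with
    | zero => exact ⟨0, by simp⟩
    | tmul a s =>
        obtain ⟨c, hc⟩ := h (residue S s)
        refine ⟨c • a, Ideal.Quotient.eq.2 ?_⟩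
        have h1 : algebraMap K P (c • a) - a ⊗ₜ[k] s = (a ⊗ₜ[k] (1 : S)) * algebraMap S P (algebraMap k S c - s) := by
          rw [Algebra.TensorProduct.algebraMap_apply, Algebra.TensorProduct.right_algebraMap_apply,
            Algebra.TensorProduct.tmul_mul_tmul, one_mul, mul_one, TensorProduct.tmul_sub]
          congr 1
          rw [show algebraMap K K (c • a) = c • a from rfl, TensorProduct.smul_tmul, Algebra.algebraMap_eq_smul_one]
        rw [h1]
        refine Ideal.mul_mem_left _ _ (Ideal.mem_map_of_mem _ ?_)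
        rw [← residue_eq_zero_iff, map_sub, ← hc]
        exact sub_self _
    | add a b ha hb =>
        obtain ⟨a', ha⟩ := ha
        obtain ⟨b', hb⟩ := hb
        exact ⟨a' + b', by rw [map_add, map_add, ha, hb]⟩
  let g : k →+* ResidueField S := (residue S).comp (algebraMap k S)
  let e := RingEquiv.ofBijective g ⟨g.injective, h⟩
  let χ₀ : S →ₐ[k] K :=
    { (algebraMap k K).comp (e.symm.toRingHom.comp (residue S)) with
      commutes' := fun c => by
        show algebraMap k K (e.symm (g c)) = algebraMap k K c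
        rw [show g c = e c from rfl, e.symm_apply_apply] }
  let χ : P →ₐ[K] K := Algebra.TensorProduct.lift (AlgHom.id K K) χ₀ fun a b => Commute.all _ _
  have hχ : M₀ ≤ RingHom.ker χ.toRingHom := by
    rw [Ideal.map_le_iff_le_comap]
    intro s hs
    show χ (algebraMap S P s) = 0
    rw [Algebra.TensorProduct.right_algebraMap_apply, Algebra.TensorProduct.lift_tmul, map_one, one_mul]
    show algebraMap k K (e.symm (residue S s)) = 0
    rw [(residue_eq_zero_iff s).2 hs, map_zero, map_zero]
  haveI : Nontrivial (P ⧸ M₀) :=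
    Ideal.Quotient.nontrivial_iff.2 (ne_top_of_le_ne_top (RingHom.ker_ne_top _) hχ)
  let eK := RingEquiv.ofBijective ι ⟨ι.injective, hsurj⟩
  haveI hM₀ : M₀.IsMaximal :=
    Ideal.Quotient.maximal_of_isField _ (MulEquiv.isField (Field.toIsField K) eK.symm.toMulEquiv)
  have huniq : ∀ M : Ideal P, M.IsMaximal → M = M₀ := fun M hM => by
    haveI := hM
    have h1 : (M.comap (algebraMap S P)).IsMaximal := Ideal.isMaximal_comap_of_isIntegral_of_isMaximal M
    exact (hM₀.eq_of_le hM.ne_top (Ideal.map_le_iff_le_comap.2 (eq_maximalIdeal h1).ge)).symm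
  haveI : IsLocalRing P := IsLocalRing.of_unique_max_ideal ⟨M₀, hM₀, huniq⟩
  haveI : IsLocalHom (algebraMap S P) :=
    ((local_hom_TFAE (algebraMap S P)).out 2 0).1 (le_maximalIdeal hM₀.ne_top)
  haveI : IsRegularLocalRing (P ⧸ (maximalIdeal S).map (algebraMap S P)) := IsRegularLocalRing.of_ringEquiv eK
  haveI := AndreFS1.isRegularLocalRing_of_closedFibre (A := S) (B := P)
  exact RegCpl3.isRegularRing_of_maximal fun M _ => IsRegularLocalRing.of_ringEquiv (R := P)
    (IsLocalization.atUnits P M.primeCompl (fun a ha => by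
      rw [IsUnit.mem_submonoid_iff]
      by_contra hu
      exact ha ((eq_maximalIdeal ‹M.IsMaximal›).ge ((mem_maximalIdeal a).2 hu)))).toRingEquiv

/-- A flat unramified extension of a regular local ring with trivial fibre is regular. -/
theorem isRegularLocalRing_of_map_maximalIdeal {R S : Type u} [CommRing R] [IsRegularLocalRing R] [CommRing S]
    [IsLocalRing S] [IsNoetherianRing S] [Algebra R S] [Module.Flat R S]
    (h : (maximalIdeal R).map (algebraMap R S) = maximalIdeal S) : IsRegularLocalRing S := by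
  haveI : IsLocalHom (algebraMap R S) := ((local_hom_TFAE (algebraMap R S)).out 2 0).1 h.le
  haveI : IsRegularLocalRing (S ⧸ maximalIdeal S) := (inferInstance : IsRegularLocalRing (ResidueField S))
  haveI : IsRegularLocalRing (S ⧸ (maximalIdeal R).map (algebraMap R S)) :=
    IsRegularLocalRing.of_ringEquiv (Ideal.quotEquivOfEq h).symm
  exact AndreFS1.isRegularLocalRing_of_closedFibre (A := R) (B := S)

end Groth.Agent.SmoothCpl5
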